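import Groth.Agent.Lib.CoefAlg20.Hull
import Groth.Prelude.Def_HopfRep

/-!
# Finite subcomodules and their projective covers from double duals
-/

universe u

set_option linter.style.haveILetI false

open TensorProduct Module HopfRep

namespace Groth.Agent.CoefAlg20

variable {R : Type u} [CommRing R] {C : Type u} [AddCommGroup C] [Module R C] [Coalgebra R C]
  {V : Type u} [AddCommGroup V] [Module R V] [Comod R C V]

/-- Coassociativity and counit for a linear map. -/
def IsCoaction (P : Type u) [AddCommGroup P] [Module R P] (ρ : P →ₗ[R] P ⊗[R] C) : Prop :=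
  (TensorProduct.assoc R P C C).toLinearMap ∘ₗ ρ.rTensor C ∘ₗ ρ =
      (CoalgebraStruct.comul (R := R) (A := C)).lTensor P ∘ₗ ρ ∧
    (CoalgebraStruct.counit (R := R) (A := C)).lTensor P ∘ₗ ρ = (TensorProduct.mk R P R).flip 1

/-- Every finite set lies in a finite subcomodule. -/
theorem exists_fg_subcomod [IsNoetherianRing R] [Module.Flat R C] (F : Finset V) :
    ∃ N : Submodule R V, N.FG ∧ IsSubcomod (k := R) (A := C) N ∧ (↑F : Set V) ⊆ N := by
  classical
  choose S hS using fun v : V => TensorProduct.exists_finset (Comod.coact (k := R) (A := C) v)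
  let N₀ : Submodule R V := Submodule.span R (F.biUnion fun v => (S v).image Prod.fst : Finset V)
  let θ : V →ₗ[R] (V ⧸ N₀) ⊗[R] C := N₀.mkQ.rTensor C ∘ₗ Comod.coact (k := R) (A := C)
  let N := LinearMap.ker θ
  have hN0 : N ≤ N₀ := by
    intro v hv
    have h1 : (CoalgebraStruct.counit (R := R) (A := C)).lTensor (V ⧸ N₀) (θ v) = N₀.mkQ v ⊗ₜ[R] (1 : R) := by
      rw [LinearMap.comp_apply, ← LinearMap.comp_apply (g := N₀.mkQ.rTensor C), LinearMap.lTensor_comp_rTensor,
        ← LinearMap.rTensor_comp_lTensor, LinearMap.comp_apply]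
      have h := LinearMap.congr_fun (Comod.counit_comp (k := R) (A := C) (V := V)) v
      rw [LinearMap.comp_apply] at h
      rw [h]
      simp
    rw [LinearMap.mem_ker.1 hv, map_zero] at h1
    have h2 := congrArg (TensorProduct.rid R (V ⧸ N₀)) h1.symm
    simpa using h2
  refine ⟨N, ?_, ?_, ?_⟩
  · haveI : IsNoetherian R N₀ := isNoetherian_of_fg_of_noetherian N₀ (Submodule.fg_span (Finset.finite_toSet _))
    haveI : Module.Finite R N := Module.Finite.of_injective (Submodule.inclusion hN0) (Submodule.inclusion_injective hN0)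
    exact Module.Finite.iff_fg.1 inferInstance
  · intro v hv
    have hex : Function.Exact (N.subtype.rTensor C) (θ.rTensor C) :=
      Module.Flat.rTensor_exact C (LinearMap.exact_subtype_ker_map θ)
    refine (hex _).1 ?_
    have h1 := LinearMap.congr_fun (Comod.coassoc (k := R) (A := C) (V := V)) v
    simp only [LinearMap.comp_apply, LinearEquiv.coe_coe] at h1
    refine (TensorProduct.assoc R (V ⧸ N₀) C C).injective ?_
    rw [map_zero]
    have h2 : ∀ z : (V ⊗[R] C) ⊗[R] C, TensorProduct.assoc R (V ⧸ N₀) C C ((N₀.mkQ.rTensor C).rTensor C z) =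
        N₀.mkQ.rTensor (C ⊗[R] C) (TensorProduct.assoc R V C C z) := fun z =>
      LinearMap.congr_fun (TensorProduct.ext_threefold (g := (TensorProduct.assoc R (V ⧸ N₀) C C).toLinearMap ∘ₗ
        (N₀.mkQ.rTensor C).rTensor C) (h := N₀.mkQ.rTensor (C ⊗[R] C) ∘ₗ (TensorProduct.assoc R V C C).toLinearMap)
        fun _ _ _ => by simp) z
    rw [show θ.rTensor C = (N₀.mkQ.rTensor C).rTensor C ∘ₗ (Comod.coact (k := R) (A := C) (V := V)).rTensor C from
      LinearMap.rTensor_comp _ _ _, LinearMap.comp_apply, h2, h1, ← LinearMap.comp_apply,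
      LinearMap.rTensor_comp_lTensor, ← LinearMap.lTensor_comp_rTensor, LinearMap.comp_apply]
    rw [show N₀.mkQ.rTensor C (Comod.coact (k := R) (A := C) v) = 0 from LinearMap.mem_ker.1 hv, map_zero]
  · intro v hv
    show θ v = 0
    rw [LinearMap.comp_apply, hS v, map_sum]
    refine Finset.sum_eq_zero fun p hp => ?_
    rw [LinearMap.rTensor_tmul, Submodule.mkQ_apply, (Submodule.Quotient.mk_eq_zero N₀).2, TensorProduct.zero_tmul]
    exact Submodule.subset_span (Finset.mem_biUnion.2 ⟨v, hv, Finset.mem_image.2 ⟨p, hp, rfl⟩⟩)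

/-- A finite subcomodule of a flat comodule receives a finite projective comodule. -/
theorem exists_projective_comod [IsRegularRing R] (hdim : ringKrullDim R ≤ 2) [Module.Flat R C] [Module.Flat R V]
    (F : Finset V) :
    ∃ (P : Type u) (_ : AddCommGroup P) (_ : Module R P) (_ : Module.Finite R P) (_ : Module.Projective R P)
      (ρ : P →ₗ[R] P ⊗[R] C) (g : P →ₗ[R] V), IsCoaction P ρ ∧
      Comod.coact (k := R) (A := C) ∘ₗ g = g.rTensor C ∘ₗ ρ ∧ (↑F : Set V) ⊆ LinearMap.range g := by
  classical
  haveI : _root_.IsReduced R :=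
    Cyc6.isReduced_of_regular R fun P _ => IsRegularRing.isRegularLocalRing_localization P
  obtain ⟨N, hNfg, hN, hFN⟩ := exists_fg_subcomod (R := R) (C := C) F
  haveI : Module.Finite R N := Module.Finite.iff_fg.2 hNfg
  haveI : Module.FinitePresentation R N := Module.finitePresentation_of_finite R N
  haveI := (finite_projective_dual_dual hdim N).1
  haveI := (finite_projective_dual_dual hdim N).2
  let P := Dual R (Dual R N)
  let ι := Dual.eval R N
  have hinj : ∀ (W : Type u) [AddCommGroup W] [Module R W] [Module.Flat R W],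
      Function.Injective (N.subtype.rTensor W) := fun W _ _ _ =>
    Module.Flat.rTensor_preserves_injective_linearMap _ N.subtype_injective
  let ρN : N →ₗ[R] N ⊗[R] C := (LinearEquiv.ofInjective (N.subtype.rTensor C) (hinj C)).symm.toLinearMap ∘ₗ
    (Comod.coact (k := R) (A := C) ∘ₗ N.subtype).codRestrict (LinearMap.range (N.subtype.rTensor C)) fun v => hN v v.2
  have hρN : N.subtype.rTensor C ∘ₗ ρN = Comod.coact (k := R) (A := C) ∘ₗ N.subtype := LinearMap.ext fun v =>
    LinearEquiv.ofInjective_symm_apply (f := N.subtype.rTensor C) (h := hinj C) _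
  have hnat : ∀ {X Y : Type u} [AddCommGroup X] [Module R X] [AddCommGroup Y] [Module R Y] (φ : X →ₗ[R] Y),
      φ.rTensor (C ⊗[R] C) ∘ₗ (TensorProduct.assoc R X C C).toLinearMap =
        (TensorProduct.assoc R Y C C).toLinearMap ∘ₗ (φ.rTensor C).rTensor C :=
    fun φ => TensorProduct.ext_threefold fun _ _ _ => by simp
  have hρNc : IsCoaction N ρN := by
    constructor
    · refine LinearMap.ext fun v => hinj (C ⊗[R] C) ?_
      have h := LinearMap.congr_fun (Comod.coassoc (k := R) (A := C) (V := V)) v
      simp only [LinearMap.comp_apply, LinearEquiv.coe_coe] at h ⊢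
      have e1 := LinearMap.congr_fun (hnat N.subtype) (ρN.rTensor C (ρN v))
      simp only [LinearMap.comp_apply, LinearEquiv.coe_coe] at e1
      rw [e1, ← LinearMap.rTensor_comp_apply, hρN, LinearMap.rTensor_comp_apply]
      have e2 := LinearMap.congr_fun hρN v
      simp only [LinearMap.comp_apply] at e2
      rw [e2, show (N.subtype v) = (v : V) from rfl, h, ← LinearMap.comp_apply (g := CoalgebraStruct.comul.lTensor N),
        LinearMap.rTensor_comp_lTensor, ← LinearMap.lTensor_comp_rTensor, LinearMap.comp_apply, e2]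
      rfl
    · refine LinearMap.ext fun v => hinj R ?_
      have h := LinearMap.congr_fun (Comod.counit_comp (k := R) (A := C) (V := V)) v
      simp only [LinearMap.comp_apply] at h ⊢
      have e2 := LinearMap.congr_fun hρN v
      simp only [LinearMap.comp_apply] at e2
      rw [← LinearMap.comp_apply (g := CoalgebraStruct.counit.lTensor N), LinearMap.rTensor_comp_lTensor,
        ← LinearMap.lTensor_comp_rTensor, LinearMap.comp_apply, e2, show (N.subtype v) = (v : V) from rfl, h]
      simp
  obtain ⟨g, hg⟩ := exists_extend N.subtype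
  obtain ⟨ρ, hρ⟩ := exists_extend (R := R) (N := N) (V := P ⊗[R] C) (ι.rTensor C ∘ₗ ρN)
  refine ⟨P, inferInstance, inferInstance, inferInstance, inferInstance, ρ, g, ⟨?_, ?_⟩, ?_, ?_⟩
  · refine extend_unique (LinearMap.ext fun v => ?_)
    have hv := LinearMap.congr_fun hρ v
    have h := LinearMap.congr_fun hρNc.1 v
    simp only [LinearMap.comp_apply, LinearEquiv.coe_coe] at hv h ⊢
    rw [hv, ← LinearMap.rTensor_comp_apply, hρ, LinearMap.rTensor_comp_apply]
    have e1 := LinearMap.congr_fun (hnat ι) (ρN.rTensor C (ρN v))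
    simp only [LinearMap.comp_apply, LinearEquiv.coe_coe] at e1
    rw [← e1, h, ← LinearMap.comp_apply (f := CoalgebraStruct.comul.lTensor P), LinearMap.lTensor_comp_rTensor,
      ← LinearMap.rTensor_comp_lTensor, LinearMap.comp_apply]
    rfl
  · refine extend_unique (LinearMap.ext fun v => ?_)
    have hv := LinearMap.congr_fun hρ v
    have h := LinearMap.congr_fun hρNc.2 v
    simp only [LinearMap.comp_apply] at hv h ⊢
    rw [hv, ← LinearMap.comp_apply (f := CoalgebraStruct.counit.lTensor P), LinearMap.lTensor_comp_rTensor,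
      ← LinearMap.rTensor_comp_lTensor, LinearMap.comp_apply, h]
    simp [ι]
    rfl
  · refine extend_unique (LinearMap.ext fun v => ?_)
    have hv := LinearMap.congr_fun hρ v
    have h := LinearMap.congr_fun hg v
    simp only [LinearMap.comp_apply] at hv h ⊢
    rw [hv, ← LinearMap.rTensor_comp_apply, hg, h]
    exact (LinearMap.congr_fun hρN v).symm
  · intro v hv
    exact ⟨ι ⟨v, hFN hv⟩, LinearMap.congr_fun hg ⟨v, hFN hv⟩⟩

end Groth.Agent.CoefAlg20
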