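import Groth.Agent.Lib.RegLoc.GlobalDim
import Groth.Agent.Lib.Cyc6.Reg
import Mathlib

/-!
# Double duals over regular rings of dimension at most two
-/

universe u

set_option linter.style.haveILetI false

open TensorProduct IsLocalRing CategoryTheory Module

namespace Groth.Agent.CoefAlg20

variable {R : Type u} [CommRing R]

theorem pd_le_two [IsRegularRing R] (hdim : ringKrullDim R ≤ 2) (M : Type u) [AddCommGroup M] [Module R M]
    [Module.Finite R M] : RegLoc.PD R M 2 := by
  refine (ModuleCat.hasProjectiveDimensionLE_iff_forall_maximalSpectrum 2 (ModuleCat.of R M)).2 fun m => ?_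
  haveI := m.2
  let Rm := Localization.AtPrime m.1
  haveI : IsRegularLocalRing Rm := IsRegularRing.isRegularLocalRing_localization m.1
  have hd : (maximalIdeal Rm).spanFinrank ≤ 2 := by
    have h1 : ((maximalIdeal Rm).spanFinrank : WithBot ℕ∞) = ringKrullDim Rm :=
      IsRegularLocalRing.spanFinrank_maximalIdeal (R := Rm)
    have h2 : ringKrullDim Rm ≤ ringKrullDim R := by
      rw [IsLocalization.AtPrime.ringKrullDim_eq_height m.1 Rm]
      exact Ideal.height_le_ringKrullDim_of_ne_top m.2.ne_top
    rw [← h1] at h2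
    exact_mod_cast h2.trans hdim
  haveI := RegLoc.hasProjectiveDimensionLT_of_regular (R := Rm) (d := (maximalIdeal Rm).spanFinrank) rfl
    ((ModuleCat.of R M).localizedModule m.1.primeCompl)
  exact hasProjectiveDimensionLT_of_ge _ ((maximalIdeal Rm).spanFinrank + 1) (2 + 1) (by omega)

/-- A kernel of a map of finite projective modules is projective. -/
theorem projective_ker [IsRegularRing R] (hdim : ringKrullDim R ≤ 2) {F G : Type u} [AddCommGroup F] [Module R F]
    [AddCommGroup G] [Module R G] [Module.Projective R F] [Module.Projective R G] [Module.Finite R G]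
    (f : F →ₗ[R] G) : Module.Projective R (LinearMap.ker f) := by
  have h2 := pd_le_two hdim (G ⧸ LinearMap.range f)
  rw [RegLoc.pd_succ_iff (LinearMap.range f).mkQ (Submodule.mkQ_surjective _), Submodule.ker_mkQ,
    RegLoc.pd_succ_iff f.rangeRestrict (LinearMap.surjective_rangeRestrict f), LinearMap.ker_rangeRestrict,
    RegLoc.pd_zero_iff] at h2
  exact h2

theorem finite_dual [IsNoetherianRing R] (M : Type u) [AddCommGroup M] [Module R M] [Module.Finite R M] :
    Module.Finite R (Dual R M) := by
  obtain ⟨n, π, hπ⟩ := Module.Finite.exists_fin' R M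
  exact Module.Finite.of_injective π.dualMap (LinearMap.dualMap_injective_of_surjective hπ)

/-- The double dual of a finite module is finite projective. -/
theorem finite_projective_dual_dual [IsRegularRing R] (hdim : ringKrullDim R ≤ 2) (N : Type u) [AddCommGroup N]
    [Module R N] [Module.Finite R N] :
    Module.Finite R (Dual R (Dual R N)) ∧ Module.Projective R (Dual R (Dual R N)) := by
  haveI := finite_dual (R := R) N
  refine ⟨finite_dual (R := R) (Dual R N), ?_⟩
  obtain ⟨a, π, hπ⟩ := Module.Finite.exists_fin' R (Dual R N)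
  obtain ⟨b, q, hq⟩ := Module.Finite.exists_fin' R (LinearMap.ker π)
  let ρ := (LinearMap.ker π).subtype ∘ₗ q
  have hρ : LinearMap.range ρ = LinearMap.ker π := by
    rw [LinearMap.range_comp, LinearMap.range_eq_top.2 hq, Submodule.map_top, Submodule.range_subtype]
  haveI : Module.Projective R (LinearMap.ker ρ.dualMap) := projective_ker hdim ρ.dualMap
  suffices he : LinearMap.range π.dualMap = LinearMap.ker ρ.dualMap by
    exact Module.Projective.of_equiv ((LinearEquiv.ofInjective π.dualMap
      (LinearMap.dualMap_injective_of_surjective hπ)).trans (LinearEquiv.ofEq _ _ he)).symm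
  rw [LinearMap.range_dualMap_eq_dualAnnihilator_ker_of_surjective _ hπ,
    LinearMap.ker_dualMap_eq_dualAnnihilator_range, hρ]

/-- Maps into a flat module extend to the double dual. -/
theorem exists_extend {N V : Type u} [AddCommGroup N] [Module R N] [Module.FinitePresentation R N]
    [AddCommGroup V] [Module R V] [Module.Flat R V] (i : N →ₗ[R] V) :
    ∃ g : Dual R (Dual R N) →ₗ[R] V, g ∘ₗ Dual.eval R N = i := by
  obtain ⟨k, a, b, rfl⟩ := Module.Flat.exists_factorization_of_isFinitelyPresented i
  refine ⟨b ∘ₗ (Module.evalEquiv R (Fin k →₀ R)).symm.toLinearMap ∘ₗ a.dualMap.dualMap, LinearMap.ext fun n => ?_⟩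
  have h : a.dualMap.dualMap (Dual.eval R N n) = Module.evalEquiv R (Fin k →₀ R) (a n) := rfl
  simp only [LinearMap.comp_apply, h, LinearEquiv.coe_coe, LinearEquiv.symm_apply_apply]

/-- At a minimal prime of a reduced ring a finite module is projective up to a scalar outside it. -/
theorem exists_dual_basis_at [IsNoetherianRing R] [IsReduced R] (N : Type u) [AddCommGroup N] [Module R N]
    [Module.Finite R N] (p : Ideal R) [p.IsPrime] (hp : p ∈ minimalPrimes R) :
    ∃ (t : R) (m : ℕ) (ξ : Fin m → Dual R N) (v : Fin m → N), t ∉ p ∧ ∀ x, t • x = ∑ i, ξ i x • v i := by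
  classical
  let S := p.primeCompl
  let K := Localization.AtPrime p
  haveI : Ring.KrullDimLE 0 K := Ring.krullDimLE_iff.2 (by
    rw [IsLocalization.AtPrime.ringKrullDim_eq_height p, Ideal.height_eq_zero_iff.2 hp]
    rfl)
  have hK : IsField K := Ring.KrullDimLE.isField_of_isReduced
  letI := hK.toField
  let Np := LocalizedModule S N
  let μ := LocalizedModule.mkLinearMap S N
  haveI : Module.Finite K Np := Module.Finite.of_isLocalizedModule S μ
  let b := Module.finBasis K Np
  set m := Module.finrank K Np
  have hb := fun i => IsLocalizedModule.surj S μ (b i)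
  choose w hw using hb
  let coordN : N →ₗ[R] (Fin m → K) := LinearMap.pi fun i => (b.coord i).restrictScalars R ∘ₗ μ
  haveI : Module.FinitePresentation R N := Module.finitePresentation_of_finite R N
  let alg : (Fin m → R) →ₗ[R] (Fin m → K) := LinearMap.pi fun i => Algebra.linearMap R K ∘ₗ LinearMap.proj i
  haveI : IsLocalizedModule S alg := inferInstanceAs (IsLocalizedModule S
    (LinearMap.pi fun i => Algebra.linearMap R K ∘ₗ LinearMap.proj i : (Fin m → R) →ₗ[R] (Fin m → K)))
  obtain ⟨β, s, hβ⟩ := Module.FinitePresentation.exists_lift_of_isLocalizedModule S alg coordN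
  let U : R := ∏ i, ((w i).2 : R)
  have hU : U ∈ S := Submonoid.prod_mem _ fun i _ => (w i).2.2
  let v : Fin m → N := fun i => (∏ j ∈ Finset.univ.erase i, ((w j).2 : R)) • (w i).1
  have hv : ∀ i, μ (v i) = U • b i := by
    intro i
    rw [map_smul, ← hw i]
    show _ • ((w i).2 : R) • b i = _
    rw [smul_smul, Finset.prod_erase_mul _ _ (Finset.mem_univ i)]
  let Φ : N →ₗ[R] N := ∑ i, (LinearMap.proj i ∘ₗ β).smulRight (v i)
  have hΦ : μ ∘ₗ Φ = μ ∘ₗ ((s.1 * U) • LinearMap.id) := by
    refine LinearMap.ext fun x => ?_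
    have hc : ∀ i, algebraMap R K (β x i) = s.1 • b.coord i (μ x) := fun i => congrFun (LinearMap.congr_fun hβ x) i
    simp only [LinearMap.comp_apply, Φ, LinearMap.coe_sum, Finset.sum_apply, LinearMap.smulRight_apply, map_sum,
      map_smul, hv, LinearMap.smul_apply, LinearMap.id_coe, id_eq, LinearMap.proj_apply]
    calc ∑ i, β x i • U • b i = ∑ i, U • (algebraMap R K (β x i) • b i) := Finset.sum_congr rfl fun i _ => by
          rw [smul_comm, algebraMap_smul]
      _ = ∑ i, U • s.1 • (b.coord i (μ x) • b i) := by simp_rw [hc, smul_assoc]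
      _ = (s.1 * U) • μ x := by
          rw [← Finset.smul_sum, ← Finset.smul_sum, smul_smul, mul_comm]
          congr 1
          exact b.sum_repr (μ x)
  obtain ⟨t', ht'⟩ := Module.Finite.exists_smul_of_comp_eq_of_isLocalizedModule S μ Φ ((s.1 * U) • LinearMap.id) hΦ
  refine ⟨t'.1 * (s.1 * U), m, fun i => LinearMap.proj i ∘ₗ β, fun i => t'.1 • v i,
    S.mul_mem t'.2 (S.mul_mem s.2 hU), fun x => ?_⟩
  have h := LinearMap.congr_fun ht' x
  change t'.1 • Φ x = t'.1 • ((s.1 * U) • x) at h
  rw [mul_smul, ← h]
  simp [Φ, Finset.smul_sum, smul_comm t'.1]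

/-- The cokernel of evaluation is killed by a non-zero-divisor. -/
theorem exists_nzd_eval [IsNoetherianRing R] [IsReduced R] (N : Type u) [AddCommGroup N] [Module R N]
    [Module.Finite R N] :
    ∃ s : R, (∀ z, s * z = 0 → z = 0) ∧ ∀ φ : Dual R (Dual R N), s • φ ∈ LinearMap.range (Dual.eval R N) := by
  classical
  let I : Ideal R := (LinearMap.range (Dual.eval R N)).colon (Set.univ : Set (Dual R (Dual R N)))
  have hI : ∀ p ∈ minimalPrimes R, ¬ I ≤ p := fun p hp hle => by
    haveI := Ideal.minimalPrimes_isPrime hp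
    obtain ⟨t, m, ξ, v, ht, hid⟩ := exists_dual_basis_at N p hp
    refine ht (hle (Submodule.mem_colon.2 fun φ _ => ⟨∑ i, φ (ξ i) • v i, LinearMap.ext fun η => ?_⟩))
    have hη : t • η = ∑ i, η (v i) • ξ i := LinearMap.ext fun x => by
      have h := congrArg η (hid x)
      simp only [map_smul, map_sum] at h
      simp only [LinearMap.smul_apply, LinearMap.coe_sum, Finset.sum_apply, h, smul_eq_mul]
      exact Finset.sum_congr rfl fun i _ => mul_comm _ _
    have h := congrArg φ hη
    simp only [map_smul, map_sum] at h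
    simp only [map_sum, map_smul, LinearMap.smul_apply, LinearMap.coe_sum, Finset.sum_apply, Dual.eval_apply, h, smul_eq_mul]
    exact Finset.sum_congr rfl fun i _ => mul_comm (φ (ξ i)) _
  have hfin := minimalPrimes.finite_of_isNoetherianRing R
  obtain ⟨s, hs, hsp⟩ : ∃ s ∈ I, ∀ p ∈ minimalPrimes R, s ∉ p := by
    by_contra hn
    push Not at hn
    have hsub : (I : Set R) ⊆ ⋃ p ∈ (↑hfin.toFinset : Set (Ideal R)), (p : Set R) := fun x hx => by
      obtain ⟨p, hp, hxp⟩ := hn x hx
      exact Set.mem_iUnion₂.2 ⟨p, by simpa using hp, hxp⟩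
    obtain ⟨p, hp, hle⟩ := (Ideal.subset_union_prime (f := fun p : Ideal R => p) ⊥ ⊥
      (fun p hp _ _ => Ideal.minimalPrimes_isPrime (hfin.mem_toFinset.1 hp))).1 hsub
    exact hI p (hfin.mem_toFinset.1 hp) hle
  refine ⟨s, fun z hz => ?_, fun φ => Submodule.mem_colon.1 hs φ trivial⟩
  have : z ∈ nilradical R := by
    rw [nilradical_eq_sInf, Ideal.mem_sInf]
    intro P hP
    haveI : P.IsPrime := hP
    obtain ⟨p, hp, hpP⟩ := Ideal.exists_minimalPrimes_le (I := ⊥) (J := P) bot_le
    haveI := Ideal.minimalPrimes_isPrime hp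
    exact hpP ((Ideal.IsPrime.mem_or_mem ‹p.IsPrime› (hz ▸ p.zero_mem)).resolve_left (hsp p hp))
  simpa [nilradical_eq_zero R] using this

/-- Extensions to the double dual are unique for flat targets. -/
theorem extend_unique [IsNoetherianRing R] [IsReduced R] {N V : Type u} [AddCommGroup N] [Module R N]
    [Module.Finite R N] [AddCommGroup V] [Module R V] [Module.Flat R V]
    {g h : Dual R (Dual R N) →ₗ[R] V} (H : g ∘ₗ Dual.eval R N = h ∘ₗ Dual.eval R N) : g = h := by
  obtain ⟨s, hs, hsN⟩ := exists_nzd_eval (R := R) N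
  refine LinearMap.ext fun φ => ?_
  obtain ⟨n, hn⟩ := hsN φ
  have e : s • g φ = s • h φ := by
    rw [← map_smul, ← map_smul, ← hn]
    exact LinearMap.congr_fun H n
  have inj : Function.Injective ((LinearMap.lsmul R R s).lTensor V) :=
    Module.Flat.lTensor_preserves_injective_linearMap _ fun a b hab => by
      have : s * (a - b) = 0 := by rw [mul_sub, sub_eq_zero]; exact hab
      exact sub_eq_zero.1 (hs _ this)
  have e' : (LinearMap.lsmul R R s).lTensor V (g φ ⊗ₜ[R] (1 : R)) = (LinearMap.lsmul R R s).lTensor V (h φ ⊗ₜ[R] (1 : R)) := by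
    simp only [LinearMap.lTensor_tmul, LinearMap.lsmul_apply, ← TensorProduct.smul_tmul, e]
  have := congrArg (TensorProduct.rid R V) (inj e')
  simpa using this

end Groth.Agent.CoefAlg20
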