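import Groth.Agent.Lib.CoefAlg20.Comod

/-!
# Coefficient algebras of projective comodules
-/

universe u

set_option linter.style.haveILetI false

open TensorProduct Module HopfRep

namespace Groth.Agent.CoefAlg20

variable {R : Type u} [CommRing R]

theorem exists_matrix_corep [IsRegularRing R] (hdim : ringKrullDim R ≤ 2) (A : Type u) [CommRing A]
    [HopfAlgebra R A] [Module.Flat R A] (F : Finset A) :
    ∃ (d : ℕ) (a : Matrix (Fin d) (Fin d) A),
      (∀ i j, CoalgebraStruct.comul (R := R) (a i j) = ∑ l, a i l ⊗ₜ[R] a l j) ∧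
      (∀ i j, CoalgebraStruct.counit (R := R) (a i j) = if i = j then 1 else 0) ∧
      ∃ u : A, u * a.det = 1 ∧ (↑F : Set A) ⊆ Algebra.adjoin R (Set.range (fun p : Fin d × Fin d => a p.1 p.2) ∪ {u}) := by
  classical
  obtain ⟨P, _, _, _, _, ρP, gP, ⟨hco, hcu⟩, hg, hF⟩ := exists_projective_comod (C := A) (V := A) hdim F
  obtain ⟨d, π, hπ⟩ := Module.Finite.exists_fin' R P
  obtain ⟨σ, hσ⟩ := Module.projective_lifting_property π LinearMap.id hπ
  let e : (Fin d → R) →ₗ[R] (Fin d → R) := LinearMap.id - σ ∘ₗ π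
  let ρ : (Fin d → R) →ₗ[R] (Fin d → R) ⊗[R] A :=
    σ.rTensor A ∘ₗ ρP ∘ₗ π + (TensorProduct.mk R (Fin d → R) A).flip 1 ∘ₗ e
  have hπσ : ∀ p, π (σ p) = p := fun p => LinearMap.congr_fun hσ p
  have hπe : π ∘ₗ e = 0 := LinearMap.ext fun x => by simp [e, hπσ]
  have heσ : e ∘ₗ σ = 0 := LinearMap.ext fun x => by simp [e, hπσ]
  have hee : e ∘ₗ e = e := LinearMap.ext fun x => by simp [e, hπσ]
  have hρπ : π.rTensor A ∘ₗ ρ = ρP ∘ₗ π := by
    refine LinearMap.ext fun x => ?_
    simp only [ρ, LinearMap.comp_apply, LinearMap.add_apply, map_add, LinearMap.flip_apply, TensorProduct.mk_apply,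
      LinearMap.rTensor_tmul, show π (e x) = 0 from LinearMap.congr_fun hπe x, TensorProduct.zero_tmul, add_zero]
    rw [← LinearMap.rTensor_comp_apply, hσ, LinearMap.rTensor_id_apply]
  have hρσ : ρ ∘ₗ σ = σ.rTensor A ∘ₗ ρP := by
    refine LinearMap.ext fun x => ?_
    simp [ρ, hπσ, show e (σ x) = 0 from LinearMap.congr_fun heσ x]
  have hρe : ∀ x, ρ (e x) = e x ⊗ₜ[R] (1 : A) := fun x => by
    simp [ρ, show π (e x) = 0 from LinearMap.congr_fun hπe x, show e (e x) = e x from LinearMap.congr_fun hee x]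
  have hco' : ∀ x, TensorProduct.assoc R (Fin d → R) A A (ρ.rTensor A (ρ x)) =
      (CoalgebraStruct.comul (R := R) (A := A)).lTensor (Fin d → R) (ρ x) := by
    intro x
    have hx : ρ x = σ.rTensor A (ρP (π x)) + e x ⊗ₜ[R] (1 : A) := by simp [ρ]
    rw [hx, map_add, map_add, map_add, ← LinearMap.rTensor_comp_apply, hρσ, LinearMap.rTensor_comp_apply,
      LinearMap.rTensor_tmul, hρe, TensorProduct.assoc_tmul, LinearMap.lTensor_tmul, Bialgebra.comul_one,
      Algebra.TensorProduct.one_def]
    have h1 : ∀ z : (P ⊗[R] A) ⊗[R] A, TensorProduct.assoc R (Fin d → R) A A ((σ.rTensor A).rTensor A z) =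
        σ.rTensor (A ⊗[R] A) (TensorProduct.assoc R P A A z) := fun z =>
      LinearMap.congr_fun (TensorProduct.ext_threefold (g := (TensorProduct.assoc R (Fin d → R) A A).toLinearMap ∘ₗ
        (σ.rTensor A).rTensor A) (h := σ.rTensor (A ⊗[R] A) ∘ₗ (TensorProduct.assoc R P A A).toLinearMap)
        fun _ _ _ => by simp) z
    have h2 := LinearMap.congr_fun hco (π x)
    simp only [LinearMap.comp_apply, LinearEquiv.coe_coe] at h2
    rw [h1, h2, ← LinearMap.comp_apply, LinearMap.rTensor_comp_lTensor, ← LinearMap.lTensor_comp_rTensor,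
      LinearMap.comp_apply]
  have hcu' : ∀ x, (CoalgebraStruct.counit (R := R) (A := A)).lTensor (Fin d → R) (ρ x) = x ⊗ₜ[R] (1 : R) := by
    intro x
    have hx : ρ x = σ.rTensor A (ρP (π x)) + e x ⊗ₜ[R] (1 : A) := by simp [ρ]
    have h2 := LinearMap.congr_fun hcu (π x)
    simp only [LinearMap.comp_apply] at h2
    rw [hx, map_add, ← LinearMap.comp_apply, LinearMap.lTensor_comp_rTensor, ← LinearMap.rTensor_comp_lTensor,
      LinearMap.comp_apply, h2, LinearMap.lTensor_tmul, Bialgebra.counit_one]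
    simp [← TensorProduct.add_tmul, e]
  let δ : Fin d → (Fin d → R) := fun j => Pi.single j 1
  let coord : Fin d → ((Fin d → R) ⊗[R] A →ₗ[R] A) := fun i =>
    (TensorProduct.lid R A).toLinearMap ∘ₗ (LinearMap.proj i).rTensor A
  let a : Matrix (Fin d) (Fin d) A := fun i j => coord i (ρ (δ j))
  have hsum : ∀ z : (Fin d → R) ⊗[R] A, z = ∑ i, δ i ⊗ₜ[R] coord i z := by
    intro z
    induction z using TensorProduct.induction_on with
    | zero => simp
    | add x y hx hy => simp only [map_add, TensorProduct.tmul_add, Finset.sum_add_distrib]; rw [← hx, ← hy]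
    | tmul v b =>
      simp only [coord, LinearMap.comp_apply, LinearMap.rTensor_tmul, LinearEquiv.coe_coe, TensorProduct.lid_tmul,
        LinearMap.proj_apply, TensorProduct.tmul_smul, TensorProduct.smul_tmul']
      rw [← TensorProduct.sum_tmul]
      congr 1
      conv_lhs => rw [pi_eq_sum_univ' v]
  have hρj : ∀ j, ρ (δ j) = ∑ i, δ i ⊗ₜ[R] a i j := fun j => hsum _
  let coord2 : Fin d → ((Fin d → R) ⊗[R] (A ⊗[R] A) →ₗ[R] A ⊗[R] A) := fun i =>
    (TensorProduct.lid R (A ⊗[R] A)).toLinearMap ∘ₗ (LinearMap.proj i).rTensor (A ⊗[R] A)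
  have hδ : ∀ i k : Fin d, δ k i = if i = k then (1 : R) else 0 := fun i k => Pi.single_apply k 1 i
  have hcomul : ∀ i j, CoalgebraStruct.comul (R := R) (a i j) = ∑ l, a i l ⊗ₜ[R] a l j := by
    intro i j
    have h := congrArg (coord2 i) (hco' (δ j))
    rw [hρj j] at h
    simp only [map_sum, LinearMap.rTensor_tmul, LinearMap.lTensor_tmul] at h
    simp only [hρj, TensorProduct.sum_tmul, map_sum, TensorProduct.assoc_tmul] at h
    simp only [coord2, LinearMap.comp_apply, LinearMap.rTensor_tmul, LinearEquiv.coe_coe, TensorProduct.lid_tmul,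
      LinearMap.proj_apply, hδ, ite_smul, one_smul, zero_smul, Finset.sum_ite_eq, Finset.mem_univ, if_true] at h
    exact h.symm
  have hcounit : ∀ i j, CoalgebraStruct.counit (R := R) (a i j) = if i = j then 1 else 0 := by
    intro i j
    have h := congrArg (fun z => (TensorProduct.lid R R) ((LinearMap.proj i).rTensor R z)) (hcu' (δ j))
    rw [hρj j] at h
    simp only [map_sum, LinearMap.lTensor_tmul, LinearMap.rTensor_tmul, TensorProduct.lid_tmul,
      LinearMap.proj_apply, hδ, ite_smul, one_smul, zero_smul, Finset.sum_ite_eq, Finset.mem_univ, if_true] at h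
    exact h
  refine ⟨d, a, hcomul, hcounit, ((HopfAlgebra.antipode R (A := A)).mapMatrix a).det, ?_, ?_⟩
  · have h : (HopfAlgebra.antipode R (A := A)).mapMatrix a * a = 1 := by
      refine Matrix.ext fun i j => ?_
      have h1 := HopfAlgebra.mul_antipode_rTensor_comul_apply (R := R) (a i j)
      rw [hcomul i j] at h1
      simp only [map_sum, LinearMap.rTensor_tmul, LinearMap.mul'_apply, hcounit] at h1
      rw [Matrix.mul_apply, Matrix.one_apply]
      refine h1.trans ?_
      split <;> simp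
    rw [← Matrix.det_mul, h, Matrix.det_one]
  · intro f hf
    obtain ⟨p, rfl⟩ := hF hf
    obtain ⟨x, rfl⟩ := hπ p
    let E := Algebra.adjoin R (Set.range (fun p : Fin d × Fin d => a p.1 p.2) ∪
      {((HopfAlgebra.antipode R (A := A)).mapMatrix a).det})
    have hgπ : ∀ j, Coalgebra.comul (R := R) (gP (π (δ j))) = ∑ i, gP (π (δ i)) ⊗ₜ[R] a i j := fun j => by
      have h1 := LinearMap.congr_fun hg (π (δ j))
      have h2 := LinearMap.congr_fun hρπ (δ j)
      simp only [LinearMap.comp_apply] at h1 h2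
      rw [← h2, hρj] at h1
      simp only [map_sum, LinearMap.rTensor_tmul] at h1
      exact h1
    have hmem : ∀ j, gP (π (δ j)) ∈ E := fun j => by
      have h1 := congrArg (fun z => TensorProduct.lid R A ((Coalgebra.counit (R := R)).rTensor A z)) (hgπ j)
      simp only [Coalgebra.rTensor_counit_comul, TensorProduct.lid_tmul, one_smul, map_sum,
        LinearMap.rTensor_tmul] at h1
      rw [h1]
      exact Subalgebra.sum_mem _ fun i _ => Subalgebra.smul_mem _
        (show a i j ∈ E from Algebra.subset_adjoin (R := R) (Set.mem_union_left _ (Set.mem_range_self (f := fun p : Fin d × Fin d => a p.1 p.2) (i, j)))) _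
    show gP (π x) ∈ E
    rw [pi_eq_sum_univ' x, map_sum, map_sum]
    exact Subalgebra.sum_mem _ fun i _ => by rw [map_smul, map_smul]; exact Subalgebra.smul_mem _ (hmem i) _

end Groth.Agent.CoefAlg20
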